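import Cfsg.Agent.H8.Ore.JBound
import Cfsg.Agent.H55.CoOneBd
import Cfsg.Agent.H147.Fpr.CoOneNine
import Cfsg.Agent.H813.CoSevenCard

/-!
# Row `Co1` of S2443: bounds for centralizers (helper8)

* `bound_5A` : `|C(g)| ≤ 18000` for `g` with a power `y` in the class `5A`, `g ∉ ⟨y⟩`;
* `bound_prime` : `|C(y)| ≤ 36000` for `y` in `5B` or of order 7, 11, 13, 23.
-/

set_option autoImplicit false

namespace Cfsg.Agent.H8.Ore.CoOneB

open Subgroup Cfsg
open Cfsg.Agent.LThreeMB (fr XX Zx)
open Cfsg.Agent.H55.CoOneBd (finite_co1 card_co1 card_cent_dvd card_cent_XX card_cent_conj exists_lift)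
open Cfsg.Spor (Co1)

/-- the centralizer of an element with a given power -/
theorem cent_le_of_pow {G : Type*} [Group G] [Finite G] {y g : G} (hyg : y ∈ zpowers g) {n : ℕ}
    (hn : ∀ x : XX y, x ≠ 1 → Nat.card (centralizer ({x} : Set (XX y))) ≤ n) (hg : g ∉ zpowers y) :
    Nat.card (centralizer ({g} : Set G)) ≤ n * orderOf y := by
  have hyc : ∀ {c : G}, c * g = g * c → c * y = y * c := fun {c} hc => by
    obtain ⟨k, rfl⟩ := mem_zpowers_iff.1 hyg
    exact ((show Commute c g from hc).zpow_right k).eq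
  have hle : centralizer ({g} : Set G) ≤ centralizer ({y} : Set G) := fun c hc =>
    mem_centralizer_singleton_iff.2 (hyc (mem_centralizer_singleton_iff.1 hc))
  have hgC : g ∈ centralizer ({y} : Set G) := hle (mem_centralizer_singleton_iff.2 rfl)
  set g' : ↥(centralizer ({y} : Set G)) := ⟨g, hgC⟩ with hg'
  set π : ↥(centralizer ({y} : Set G)) →* XX y := QuotientGroup.mk' (Zx y) with hπ
  have hne : π g' ≠ 1 := by
    intro h
    have h1 : g' ∈ Zx y := (QuotientGroup.eq_one_iff _).1 h
    obtain ⟨k, hk⟩ := mem_zpowers_iff.1 h1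
    exact hg (mem_zpowers_iff.2 ⟨k, congrArg Subtype.val hk⟩)
  have h1 := J2Type.SylowFive.card_comap_mk' (Zx y) (centralizer ({π g'} : Set (XX y)))
  have h2 : (centralizer ({g} : Set G)).subgroupOf (centralizer ({y} : Set G)) ≤
      (centralizer ({π g'} : Set (XX y))).comap (QuotientGroup.mk' (Zx y)) := by
    intro c hc
    rw [mem_subgroupOf, mem_centralizer_singleton_iff] at hc
    rw [mem_comap, mem_centralizer_singleton_iff]
    show π c * π g' = π g' * π c
    rw [← map_mul, ← map_mul]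
    congr 1
    exact Subtype.ext hc
  have h3 : Nat.card (centralizer ({g} : Set G)) =
      Nat.card ↥((centralizer ({g} : Set G)).subgroupOf (centralizer ({y} : Set G))) :=
    (Nat.card_congr (subgroupOfEquivOfLe hle).toEquiv).symm
  have h4 : Nat.card ↥(Zx y) = orderOf y := by
    rw [Zx, Nat.card_zpowers]
    exact (Subgroup.orderOf_coe (LThreeMB.self y)).symm
  rw [h3]
  refine (Subgroup.card_le_of_le h2).trans ?_
  rw [h1, h4]
  exact Nat.mul_le_mul_right _ (hn _ hne)

/-- **Elements with a power in `5A`.** -/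
theorem bound_5A' {y g : Co1} (hy : orderOf y = 5) (hf : fr y = 1) (hyg : y ∈ zpowers g) (hg : g ∉ zpowers y) :
    Nat.card (centralizer ({g} : Set Co1)) ≤ 18000 := by
  have h1 := cent_le_of_pow hyg (n := 3600) (fun x hx => JBound.cent_le_j2 (MFive.JTwo.isoJ2 hy hf) hx) hg
  rw [hy] at h1
  exact h1

theorem bound_5A {y g : Co1} (hy : orderOf y = 5) (hf : fr y = 1) (hyg : y ∈ zpowers g) (hg : g ∉ zpowers y) :
    Nat.card (centralizer ({g} : Set Co1)) ≤ 38726 :=
  (bound_5A' hy hf hyg hg).trans (by norm_num)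

theorem bound_5B {y : Co1} (hy : orderOf y = 5) (hf : fr y = 2 ^ 8) :
    Nat.card (centralizer ({y} : Set Co1)) = 36000 := MFiveHN.UpEight.card_cent hy hf

theorem bound_seven {y : Co1} (hy : orderOf y = 7) : Nat.card (centralizer ({y} : Set Co1)) ≤ 35280 := by
  rcases CpAutMSeven.RanksH.main hy with h | ⟨h, -⟩
  · obtain ⟨a, rfl, ha, hao⟩ := exists_lift (by norm_num) (by norm_num) hy
    have h1 := (card_cent_dvd (by decide) ha).trans (H813.CoSevenCard.card_dvd hao (LThreeBX.NoSeven.free_of_fr h))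
    exact Nat.le_of_dvd (by norm_num) h1
  · have h0 : orderOf CpAutMSeven.RanksH.s0 = 7 := CpAutMSeven.RanksH.orderOf_s0
    rw [card_cent_conj h, card_cent_XX, h0, H820.SevenL32.card_XX]
    norm_num

theorem bound_eleven {y : Co1} (hy : orderOf y = 11) : Nat.card (centralizer ({y} : Set Co1)) ≤ 132 :=
  BpSpor.MBigCo.card_cent hy

theorem bound_thirteen {y : Co1} (hy : orderOf y = 13) : Nat.card (centralizer ({y} : Set Co1)) ≤ 312 :=
  Nat.le_of_dvd (by norm_num) (H147.Fpr.CoOneNine.dvd_312 hy)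

theorem bound_23 {y : Co1} (hy : orderOf y = 23) : Nat.card (centralizer ({y} : Set Co1)) ≤ 46 := by
  obtain ⟨a, rfl, ha, hao⟩ := exists_lift (by norm_num) (by norm_num) hy
  have hfin := CoOneType.FrameFix.finite_co0
  have h1 := H604.Cop.Conway.card_cent_co0 hao
  exact (Nat.le_of_dvd Nat.card_pos (card_cent_dvd (by decide) ha)).trans h1

/-- **The other elements of prime order.** -/
theorem bound_prime {y : Co1} (h : (orderOf y = 5 ∧ fr y = 2 ^ 8) ∨ orderOf y = 7 ∨ orderOf y = 11 ∨
    orderOf y = 13 ∨ orderOf y = 23) : Nat.card (centralizer ({y} : Set Co1)) ≤ 38726 := by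
  rcases h with ⟨h, hf⟩ | h | h | h | h
  · exact (bound_5B h hf).le.trans (by norm_num)
  · exact (bound_seven h).trans (by norm_num)
  · exact (bound_eleven h).trans (by norm_num)
  · exact (bound_thirteen h).trans (by norm_num)
  · exact (bound_23 h).trans (by norm_num)

end Cfsg.Agent.H8.Ore.CoOneB
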