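import Cfsg.Agent.J2Type.ThreeF
import Cfsg.Agent.J2Type.FiveFus
import Cfsg.Agent.KFacts.J2.Facts
import Cfsg.Agent.J2.HundredGens
import Cfsg.Agent.S1619

/-!
# The centralizers of the nontrivial elements of `J₂` have order at most 3600 (helper8)

* `cent_le` : `|C(x)| ≤ 3600` for `x ≠ 1` in a group with the involution fusion of `J₂`.
-/

set_option autoImplicit false

namespace Cfsg.Agent.H8.Ore.JBound

open Subgroup Cfsg
open Cfsg.Agent.J2Type.Base (Fus)

variable {G : Type*} [Group G] [Finite G] {z u : G}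

/-- stripping a prime -/
theorem strip {p a b m n : ℕ} (hp : p.Prime) (hn : n ∣ p ^ a * m) (hn0 : n ≠ 0) (h : ¬ p ^ (b + 1) ∣ n) :
    n ∣ p ^ b * m := by
  obtain ⟨k, r, hr, hk⟩ := Nat.exists_eq_pow_mul_and_not_dvd hn0 p hp.ne_one
  have h1 : k ≤ b := by
    by_contra hlt
    push Not at hlt
    exact h (hk ▸ (pow_dvd_pow p hlt).mul_right r)
  have h2 : r ∣ p ^ a * m := (hk ▸ Dvd.intro_left _ rfl : r ∣ n).trans hn
  have h3 : Nat.Coprime r (p ^ a) := Nat.Coprime.pow_right a ((Nat.Prime.coprime_iff_not_dvd hp).2 hr).symm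
  rw [hk]
  exact mul_dvd_mul (pow_dvd_pow p h1) (h3.dvd_of_dvd_mul_left h2)

omit [Finite G] in
/-- conjugate elements have centralizers of the same order -/
theorem card_conj {x y : G} (h : IsConj x y) :
    Nat.card (centralizer ({x} : Set G)) = Nat.card (centralizer ({y} : Set G)) :=
  J2Type.Cent5.card_centralizer_of_isConj h

theorem two (F : Fus z u) {a : G} (ha : orderOf a = 2) : Nat.card (centralizer ({a} : Set G)) = 1920 ∨
    Nat.card (centralizer ({a} : Set G)) = 240 := by
  rcases F.cover a ha with h1 | h1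
  · left; rw [← J2Type.Cent5.card_centralizer_of_isConj h1, F.cardC]
  · right; rw [← J2Type.Cent5.card_centralizer_of_isConj h1, J2Type.Order.card_centralizer_u F]

theorem three (F : Fus z u) {a : G} (ha : orderOf a = 3) : Nat.card (centralizer ({a} : Set G)) = 1080 ∨
    Nat.card (centralizer ({a} : Set G)) = 36 := by
  obtain ⟨b, c, -, -, hca, hcb, hcl, -⟩ := J2Type.ThreeF.main F
  rcases hcl a ha with h1 | h1
  · left; rw [J2Type.Cent5.card_centralizer_of_isConj h1, hca]
  · right; rw [J2Type.Cent5.card_centralizer_of_isConj h1, hcb]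

theorem seven (F : Fus z u) {a : G} (ha : orderOf a = 7) : Nat.card (centralizer ({a} : Set G)) = 7 := by
  have f7 : Fact (Nat.Prime 7) := ⟨by norm_num⟩
  have hG := J2Type.Order.card_of_fus F
  have hc : Nat.card (zpowers a) = 7 := by rw [Nat.card_zpowers, ha]
  have hfac : 7 ^ (Nat.card G).factorization 7 = 7 := by
    have h : (604800 : ℕ) = 7 ^ 1 * 86400 := by norm_num
    rw [hG, h, Nat.factorization_mul (by norm_num) (by norm_num), Nat.Prime.factorization_pow (by norm_num)]
    rw [Finsupp.add_apply, Finsupp.single_eq_same, Nat.factorization_eq_zero_of_not_dvd (by norm_num)]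
    norm_num
  let S : Sylow 7 G := Sylow.ofCard (zpowers a) (by rw [hc, hfac])
  have h1 := (J2Type.ThreeF.sylow_seven F S).1
  have h2 : (S : Subgroup G) = zpowers a := rfl
  have h3 : centralizer ({a} : Set G) ≤ centralizer ((zpowers a : Subgroup G) : Set G) := by
    intro c hc
    rw [mem_centralizer_singleton_iff] at hc
    rw [mem_centralizer_iff]
    rintro _ ⟨k, rfl⟩
    have hcomm : Commute a c := (show Commute c a from hc).symm
    exact (hcomm.zpow_left k).eq
  rw [h2] at h1
  rw [h1] at h3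
  have h4 : (zpowers a : Subgroup G) ≤ centralizer ({a} : Set G) := by
    rw [zpowers_le, mem_centralizer_singleton_iff]
  rw [le_antisymm h3 h4, hc]

theorem five (F : Fus z u) {a : G} (ha : orderOf a = 5) : Nat.card (centralizer ({a} : Set G)) ≤ 3600 := by
  have hG := J2Type.Order.card_of_fus F
  set C := centralizer ({a} : Set G) with hC
  have hdvd : Nat.card C ∣ 604800 := hG ▸ card_subgroup_dvd_card C
  have hself : ∀ {x : G}, x ∈ C → a ∈ centralizer ({x} : Set G) := fun {x} hx => by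
    rw [mem_centralizer_singleton_iff]
    exact (mem_centralizer_singleton_iff.1 hx).symm
  have hfive : ∀ {x : G}, x ∈ C → 5 ∣ Nat.card (centralizer ({x} : Set G)) := fun {x} hx => by
    have h := orderOf_dvd_natCard (⟨a, hself hx⟩ : centralizer ({x} : Set G))
    rwa [Subgroup.orderOf_mk, ha] at h
  -- 7
  have h7 : ¬ 7 ∣ Nat.card C := by
    intro h
    have f7 : Fact (Nat.Prime 7) := ⟨by norm_num⟩
    obtain ⟨⟨y, hy⟩, hy7⟩ := exists_prime_orderOf_dvd_card' (G := C) 7 h
    rw [Subgroup.orderOf_mk] at hy7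
    have h1 := hfive hy
    rw [seven F hy7] at h1
    norm_num at h1
  -- 27
  have h27 : ¬ 27 ∣ Nat.card C := by
    intro h
    have f3 : Fact (Nat.Prime 3) := ⟨Nat.prime_three⟩
    obtain ⟨Q⟩ : Nonempty (Sylow 3 C) := inferInstance
    have hQ : 27 ∣ Nat.card Q := by
      have := Q.pow_dvd_card_of_pow_dvd_card (n := 3) (by simpa using h)
      simpa using this
    obtain ⟨P, hP⟩ : ∃ P : Sylow 3 G, (P : Subgroup G) = (Q : Subgroup C).map C.subtype := by
      have hcQ : Nat.card ((Q : Subgroup C).map C.subtype) = Nat.card Q :=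
        card_map_of_injective C.subtype_injective
      have hQd : Nat.card Q ∣ 604800 := (card_subgroup_dvd_card (Q : Subgroup C)).trans hdvd
      obtain ⟨n, hn⟩ := Q.2.exists_card_eq
      have hn3 : n = 3 := by
        rw [hn] at hQ hQd
        have h1 : n < 4 := by
          by_contra hlt
          push Not at hlt
          have h2 := (pow_dvd_pow 3 hlt).trans hQd
          norm_num at h2
        have h2 : 3 ≤ n := by
          have : 3 ^ 3 ∣ 3 ^ n := by simpa using hQ
          exact (Nat.pow_dvd_pow_iff_le_right (by norm_num)).1 this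
        omega
      have hfac : 3 ^ (Nat.card G).factorization 3 = 27 := by
        have h : (604800 : ℕ) = 3 ^ 3 * 22400 := by norm_num
        rw [hG, h, Nat.factorization_mul (by norm_num) (by norm_num), Nat.Prime.factorization_pow (by norm_num)]
        rw [Finsupp.add_apply, Finsupp.single_eq_same, Nat.factorization_eq_zero_of_not_dvd (by norm_num)]
        norm_num
      exact ⟨Sylow.ofCard ((Q : Subgroup C).map C.subtype) (by rw [hcQ, hn, hn3, hfac]; norm_num), rfl⟩
    obtain ⟨b, c, -, hc3, -, hcb, -, -⟩ := J2Type.ThreeF.main F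
    obtain ⟨g, hg⟩ := J2Type.SylowFive.exists_conj_mem_sylow P (y := c) (n := 1) (by rw [hc3]; norm_num)
    have h1 : g * c * g⁻¹ ∈ C := by
      have h2 : g * c * g⁻¹ ∈ (P : Subgroup G) := hg
      rw [hP] at h2
      obtain ⟨q, -, hq⟩ := h2
      rw [← hq]
      exact q.2
    have h2 := hfive h1
    rw [← card_conj (isConj_iff.2 ⟨g, rfl⟩ : IsConj c (g * c * g⁻¹)), hcb] at h2
    norm_num at h2
  -- 32
  have h32 : ¬ 32 ∣ Nat.card C := by
    intro h
    have f2 : Fact (Nat.Prime 2) := ⟨Nat.prime_two⟩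
    obtain ⟨Q⟩ : Nonempty (Sylow 2 C) := inferInstance
    have hQ : 32 ∣ Nat.card Q := by
      have := Q.pow_dvd_card_of_pow_dvd_card (n := 5) (by simpa using h)
      simpa using this
    have hnt : Nontrivial Q := by
      rw [← Finite.one_lt_card_iff_nontrivial]
      exact lt_of_lt_of_le (by norm_num) (Nat.le_of_dvd Nat.card_pos hQ)
    have hcn : Nontrivial (center Q) := Q.2.center_nontrivial
    obtain ⟨t, ht⟩ : ∃ t : center Q, orderOf t = 2 := by
      have h1 : IsPGroup 2 (center Q) := Q.2.to_subgroup _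
      obtain ⟨n, hn⟩ := h1.exists_card_eq
      have h2 : 2 ∣ Nat.card (center Q) := by
        have h3 := Finite.one_lt_card (α := center Q)
        rw [hn] at h3 ⊢
        rcases n with _ | n
        · norm_num at h3
        · exact dvd_pow_self 2 (by omega)
      exact exists_prime_orderOf_dvd_card' 2 h2
    have ht2 : orderOf (((t : ↥(Q : Subgroup ↥C)) : ↥C) : G) = 2 := by
      rw [Subgroup.orderOf_coe, Subgroup.orderOf_coe, Subgroup.orderOf_coe, ht]
    set s : G := (((t : ↥(Q : Subgroup ↥C)) : ↥C) : G) with hs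
    have hsC : s ∈ C := ((t : ↥(Q : Subgroup ↥C)) : ↥C).2
    -- `32 ∣ |C(s)|`
    have h3 : 32 ∣ Nat.card (centralizer ({s} : Set G)) := by
      have hle : (Q : Subgroup C).map C.subtype ≤ centralizer ({s} : Set G) := by
        rintro _ ⟨q, hq, rfl⟩
        rw [mem_centralizer_singleton_iff]
        have h4 := mem_center_iff.1 t.2 (⟨q, hq⟩ : Q)
        exact congrArg (fun x : Q => ((x : C) : G)) h4
      have h4 := card_dvd_of_le hle
      rw [card_map_of_injective C.subtype_injective] at h4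
      exact hQ.trans h4
    rcases F.cover s ht2 with h4 | h4
    · obtain ⟨g, hg⟩ := isConj_iff.1 h4.symm
      have hw : orderOf (g * a * g⁻¹) = 5 := by
        rw [← ha]
        exact MulEquiv.orderOf_eq (MulAut.conj g) a
      have has : a * s = s * a := (mem_centralizer_singleton_iff.1 hsC).symm
      have hwz : (g * a * g⁻¹) * z = z * (g * a * g⁻¹) := by
        rw [← hg]
        calc (g * a * g⁻¹) * (g * s * g⁻¹) = g * (a * s) * g⁻¹ := by group
          _ = g * (s * a) * g⁻¹ := by rw [has]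
          _ = _ := by group
      have h5 := J2Type.FiveFus.not_four_dvd F hw hwz
      rw [← card_conj (isConj_iff.2 ⟨g, rfl⟩ : IsConj a (g * a * g⁻¹))] at h5
      exact h5 ((by norm_num : (4 : ℕ) ∣ 32).trans h)
    · rw [← card_conj h4, J2Type.Order.card_centralizer_u F] at h3
      norm_num at h3
  -- conclusion
  have hC0 : Nat.card C ≠ 0 := Nat.card_pos.ne'
  have e0 : Nat.card C ∣ 2 ^ 7 * (3 ^ 3 * (7 ^ 1 * 25)) := by
    rw [show 2 ^ 7 * (3 ^ 3 * (7 ^ 1 * 25)) = 604800 by norm_num]; exact hdvd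
  have e1 := strip (b := 4) Nat.prime_two e0 hC0 h32
  have e2 : Nat.card C ∣ 3 ^ 3 * (2 ^ 4 * (7 ^ 1 * 25)) := by
    rw [show 3 ^ 3 * (2 ^ 4 * (7 ^ 1 * 25)) = 2 ^ 4 * (3 ^ 3 * (7 ^ 1 * 25)) by norm_num]; exact e1
  have e3 := strip (b := 2) Nat.prime_three e2 hC0 h27
  have e4 : Nat.card C ∣ 7 ^ 1 * (3 ^ 2 * (2 ^ 4 * 25)) := by
    rw [show 7 ^ 1 * (3 ^ 2 * (2 ^ 4 * 25)) = 3 ^ 2 * (2 ^ 4 * (7 ^ 1 * 25)) by norm_num]; exact e3
  have e5 := strip (b := 0) (p := 7) (by norm_num) e4 hC0 h7
  exact Nat.le_of_dvd (by norm_num) (by simpa using e5)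

/-- **The centralizers of the nontrivial elements.** -/
theorem cent_le (F : Fus z u) {x : G} (hx : x ≠ 1) : Nat.card (centralizer ({x} : Set G)) ≤ 3600 := by
  have hG := J2Type.Order.card_of_fus F
  have hne : orderOf x ≠ 1 := fun h => hx (orderOf_eq_one_iff.1 h)
  obtain ⟨p, hp, hpd⟩ := Nat.exists_prime_and_dvd hne
  obtain ⟨m, hm⟩ := hpd
  have hpos : 0 < orderOf x := orderOf_pos x
  have hm0 : m ≠ 0 := by rintro rfl; rw [mul_zero] at hm; omega
  have ho : orderOf (x ^ m) = p := by
    rw [orderOf_pow_of_dvd hm0 (hm ▸ Dvd.intro_left _ rfl), hm, Nat.mul_div_cancel _ (Nat.pos_of_ne_zero hm0)]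
  have hle : centralizer ({x} : Set G) ≤ centralizer ({x ^ m} : Set G) := by
    intro c hc
    rw [mem_centralizer_singleton_iff] at hc ⊢
    exact ((show Commute c x from hc).pow_right m).eq
  refine (Subgroup.card_le_of_le hle).trans ?_
  have hpG : p ∣ 2 ^ 7 * (3 ^ 3 * (5 ^ 2 * 7)) := by
    rw [show 2 ^ 7 * (3 ^ 3 * (5 ^ 2 * 7)) = 604800 by norm_num, ← hG, ← ho]
    exact orderOf_dvd_natCard _
  rcases (hp.dvd_mul).1 hpG with h | h
  · have hp2 := (Nat.prime_dvd_prime_iff_eq hp Nat.prime_two).1 (hp.dvd_of_dvd_pow h)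
    rcases two F (ho.trans hp2) with h1 | h1 <;> rw [h1] <;> norm_num
  rcases (hp.dvd_mul).1 h with h | h
  · have hp2 := (Nat.prime_dvd_prime_iff_eq hp Nat.prime_three).1 (hp.dvd_of_dvd_pow h)
    rcases three F (ho.trans hp2) with h1 | h1 <;> rw [h1] <;> norm_num
  rcases (hp.dvd_mul).1 h with h | h
  · have hp2 := (Nat.prime_dvd_prime_iff_eq hp Nat.prime_five).1 (hp.dvd_of_dvd_pow h)
    exact five F (ho.trans hp2)
  · have hp2 := (Nat.prime_dvd_prime_iff_eq hp (by norm_num)).1 h
    rw [seven F (ho.trans hp2)]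
    norm_num

/-- in a group isomorphic to `J₂` -/
theorem cent_le_j2 {S : Type*} [Group S] (h : Spor.IsoJ2 S) {x : S} (hx : x ≠ 1) :
    Nat.card (centralizer ({x} : Set S)) ≤ 3600 := by
  have hf : Finite S := by
    obtain ⟨e⟩ := h
    obtain ⟨ψ⟩ := Cfsg.Agent.J2.HundredGens.J2_iso Cfsg.Agent.S1619.result.2.2.2
    exact Finite.of_equiv _ (e.trans ψ).symm.toEquiv
  obtain ⟨t, u, Q, v, ρ, D⟩ := KFacts.J2.Facts.exists_dat_of h
  exact cent_le D.F hx

end Cfsg.Agent.H8.Ore.JBound
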