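import Cfsg.Agent.H777.Ore.Base
import Cfsg.Agent.LThreeCo1.Ranks
import Cfsg.Agent.CoFive.Ranks

/-!
# Row `Co1` of S2443: the elements of order three and five are commutators (helper8)

* `isC_three`, `isC_five`, `isC_prime`.
-/

set_option autoImplicit false

namespace Cfsg.Agent.H8.Ore.CoOneA

open Cfsg Cfsg.Agent.H777.Ore
open Cfsg.Agent.LThreeMB (fr fr_conj ClassOf)
open Cfsg.Spor (Co1)

theorem fr_inv (s : Co1) : fr s⁻¹ = fr s := by
  unfold Cfsg.Agent.LThreeMB.fr
  refine Nat.card_congr (Equiv.subtypeEquivRight fun v => ?_)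
  rw [inv_smul_eq_iff]
  exact eq_comm

/-- the elements of order three are real -/
theorem real_three {s : Co1} (hs : orderOf s = 3) : ∃ g : Co1, g * s * g⁻¹ = s⁻¹ := by
  have hs' : orderOf s⁻¹ = 3 := by rw [orderOf_inv, hs]
  rcases LThreeCo1.Ranks.ranks s hs with h | h | h | h
  · exact LThreeCo1.Ranks.zero s s⁻¹ hs hs' h (by rw [fr_inv, h])
  · exact LThreeCo1.Ranks.six s s⁻¹ hs hs' h (by rw [fr_inv, h])
  · exact LThreeCo1.Ranks.eight s s⁻¹ hs hs' h (by rw [fr_inv, h])
  · exact LThreeCo1.Ranks.twelve s s⁻¹ hs hs' h (by rw [fr_inv, h])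

theorem isC_three {s : Co1} (hs : orderOf s = 3) : IsC s := by
  obtain ⟨g, hg⟩ := real_three hs
  exact isC_of_real_odd hg (by rw [hs]; decide)

/-- the elements of order five are real -/
theorem real_five {s : Co1} (hs : orderOf s = 5) : ∃ g : Co1, g * s * g⁻¹ = s⁻¹ := by
  have h1 : IsConj (s ^ 4) s := CoFive.Ranks.isConj_pow_co1 hs (by norm_num)
  have h2 : s ^ 4 = s⁻¹ := by
    have h5 : s ^ 5 = 1 := by rw [← hs, pow_orderOf_eq_one]
    rw [eq_inv_iff_mul_eq_one, ← pow_succ, h5]
  rw [h2] at h1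
  exact isConj_iff.1 h1.symm

theorem isC_five {s : Co1} (hs : orderOf s = 5) : IsC s := by
  obtain ⟨g, hg⟩ := real_five hs
  exact isC_of_real_odd hg (by rw [hs]; decide)

/-- **The elements of order three and five of `Co1` are commutators.** -/
theorem isC_prime {s : Co1} (h : orderOf s = 3 ∨ orderOf s = 5) : IsC s := by
  rcases h with h | h
  · exact isC_three h
  · exact isC_five h

end Cfsg.Agent.H8.Ore.CoOneA
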